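import Mathlib
import Cfsg.Prelude.Def_Blocks
import Cfsg.Agent.Lib.Burnside.Paqb
import Cfsg.Agent.Lib.Blocks.BlockOrth
import Cfsg.Agent.Lib.BrauerMap.Principal
import Cfsg.Agent.Lib.Primitive62.PowerSocle
import Cfsg.Agent.Lib.CharCount.Basic

/-!
# Elements whose class has prime power size

An element whose conjugacy class has prime power size has a solvable normal closure.  The main
step: if `H = S⟨x⟩` with `S` non-abelian simple normal and the class of `x` in `H` has `p`-power
size, then for a prime `q` outside `p` and the order of `x`, every non-trivial character in the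
principal `q`-block has degree divisible by `p`, against weak block orthogonality.
-/

set_option autoImplicit false

namespace Cfsg.Agent.Lib.Kazarin

open Cfsg
open Cfsg.Agent.Lib

universe u

variable {G : Type u} [Group G] [Finite G]

/-- The index of `A` in `A K` for `K` normal. -/
theorem relIndex_sup_eq (A K : Subgroup G) [K.Normal] :
    A.relIndex (A ⊔ K) = A.relIndex K := by
  have h1 : K.relIndex (A ⊔ K) = K.relIndex A := Subgroup.relIndex_sup_right A K
  have h2 : A.relIndex (A ⊔ K) = A.relIndex K := by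
    have ha : Nat.card (A ⊔ K : Subgroup G) = Nat.card A * A.relIndex (A ⊔ K) := by
      rw [← Subgroup.card_mul_index (A.subgroupOf (A ⊔ K)),
        Nat.card_congr (Subgroup.subgroupOfEquivOfLe (le_sup_left : A ≤ A ⊔ K)).toEquiv]
      rfl
    have hb : Nat.card (A ⊔ K : Subgroup G) = Nat.card K * K.relIndex (A ⊔ K) := by
      rw [← Subgroup.card_mul_index (K.subgroupOf (A ⊔ K)),
        Nat.card_congr (Subgroup.subgroupOfEquivOfLe (le_sup_right : K ≤ A ⊔ K)).toEquiv]
      rfl
    have hc : ∀ A K : Subgroup G, Nat.card A = Nat.card (A ⊓ K : Subgroup G) * K.relIndex A := by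
      intro A K
      rw [← Subgroup.inf_relIndex_left A K,
        ← Subgroup.card_mul_index ((A ⊓ K).subgroupOf A),
        Nat.card_congr (Subgroup.subgroupOfEquivOfLe (inf_le_left : A ⊓ K ≤ A)).toEquiv]
      rfl
    have hk := hc K A
    rw [inf_comm] at hk
    rw [h1, hk] at hb
    rw [hc A K] at ha
    have : 0 < Nat.card (A ⊓ K : Subgroup G) * K.relIndex A := by
      rw [← hc A K]; exact Nat.card_pos
    refine Nat.eq_of_mul_eq_mul_left this ?_
    rw [← ha, hb]; ring
  exact h2

theorem relIndex_dvd_index_of_normal_right (A K : Subgroup G) [K.Normal] :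
    A.relIndex K ∣ A.index :=
  relIndex_sup_eq A K ▸ Subgroup.relIndex_dvd_index_of_le le_sup_left

/-- The main step: an element with class of prime power size in `S⟨x⟩` centralises `S`. -/
theorem commute_of_simple (S : Subgroup G) [S.Normal] [IsSimpleGroup S]
    (hS : ¬ IsMulCommutative S) (x : G) (hgen : S ⊔ Subgroup.zpowers x = ⊤) {r a : ℕ}
    (hr : r.Prime) (hox : orderOf x = r ^ a) {p k : ℕ} (hp : p.Prime)
    (hx : (Subgroup.centralizer ({x} : Set G)).index = p ^ k) :
    ∀ s ∈ S, Commute s x := by
  classical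
  cases nonempty_fintype G
  by_contra hnc
  push Not at hnc
  obtain ⟨s₀, hs₀, hns⟩ := hnc
  obtain ⟨q, hq, hqS, hqp, hqr⟩ : ∃ q : ℕ, q.Prime ∧ q ∣ Nat.card S ∧ q ≠ p ∧ q ≠ r := by
    by_contra hcon
    push Not at hcon
    refine hS (?_ : IsMulCommutative S)
    have hsol : Group.IsSolvable S := by
      have hn0 : Nat.card S ≠ 0 := Nat.card_pos.ne'
      have hcard : Nat.card S = ∏ d ∈ ({p, r} : Finset ℕ), d ^ (Nat.card S).factorization d := by
        conv_lhs => rw [← Nat.prod_factorization_pow_eq_self hn0]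
        refine Finsupp.prod_of_support_subset (Nat.card S).factorization (fun d hd => ?_)
          (fun i n => i ^ n) (fun i _ => pow_zero i)
        rw [Nat.support_factorization, Nat.mem_primeFactors] at hd
        rw [Finset.mem_insert, Finset.mem_singleton]
        by_cases h : d = p
        · exact Or.inl h
        · exact Or.inr (hcon d hd.1 hd.2.1 h)
      by_cases hpr : p = r
      · subst hpr
        rw [Finset.pair_eq_singleton, Finset.prod_singleton] at hcard
        exact Burnside.isSolvable_of_card_eq_prime_pow_mul hp hp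
          (a := (Nat.card S).factorization p) (b := 0) (by rw [pow_zero, mul_one]; exact hcard)
      · rw [Finset.prod_pair hpr] at hcard
        exact Burnside.isSolvable_of_card_eq_prime_pow_mul hp hr hcard
    exact IsMulCommutative.of_comm (IsSimpleGroup.comm_iff_isSolvable.mpr hsol)
  haveI : Fact q.Prime := ⟨hq⟩
  obtain ⟨g₀, hg₀⟩ := exists_prime_orderOf_dvd_card' q hqS
  set g : G := (g₀ : G) with hg
  have hgo : orderOf g = q := by rw [hg, Subgroup.orderOf_coe]; exact hg₀
  obtain ⟨M, hM⟩ := CharCount.exists_isPModular q hq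
  haveI : M.IsPrime := Blocks.isPModular_isPrime hM
  have hxr : ¬ q ∣ orderOf x := by
    rw [hox]
    exact fun h => hqr ((Nat.prime_dvd_prime_iff_eq hq hr).mp (hq.dvd_of_dvd_pow h))
  have hB := BrauerMap.isPBlock_principalBlock (G := G) M
  have horth := Blocks.weak_block_orth hM hB (g := (1 : G)) (h := g)
    (by simpa using hq.ne_one) (hgo ▸ dvd_rfl)
  have hpk : ¬ MemLocalIdeal M ((p ^ k : ℕ) : ℂ) := by
    rw [Blocks.memLocalIdeal_natCast_iff hM]
    exact fun h => hqp ((Nat.prime_dvd_prime_iff_eq hq hp).mp (hq.dvd_of_dvd_pow h))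
  -- every other member of the principal block has degree divisible by `p`
  have key : ∀ χ ∈ principalBlock M G, χ ≠ Chars.trivialIrr G →
      ∃ z : ℂ, IsIntegral ℤ z ∧ (χ : G → ℂ) 1 * starRingEnd ℂ ((χ : G → ℂ) g) = (p : ℂ) * z := by
    intro χ hχ hne
    have hcc : MemLocalIdeal M (centralChar (χ : G → ℂ) x - ((p ^ k : ℕ) : ℂ)) := by
      have h := Blocks.sameBlock_symm (M := M) hχ x
      rw [BrauerMap.centralChar_one, hx] at h
      exact h
    obtain ⟨n, ρ, hρ, hc⟩ := χ.2
    haveI := hρ
    rw [← hc] at hcc ⊢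
    rw [Representation.char_one]
    by_cases hpn : p ∣ Module.finrank ℂ (Fin n → ℂ)
    · obtain ⟨m, hm⟩ := hpn
      refine ⟨(m : ℂ) * starRingEnd ℂ (ρ.character g),
        IsIntegral.mul (map_natCast (algebraMap ℤ ℂ) m ▸ isIntegral_algebraMap)
          ((Chars.char_isIntegral ρ g).map (starRingEnd ℂ).toIntAlgHom), ?_⟩
      rw [hm]; push_cast; ring
    exfalso
    have hx0 : ρ.character x ≠ 0 := by
      intro h0
      refine hpk ?_
      have := Blocks.memLocalIdeal_neg hcc
      simpa [centralChar, h0] using this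
    obtain ⟨c, hcs⟩ := (Burnside.char_eq_zero_or_scalar ρ x (by
      rw [Chars.card_conjClass_eq_index, hx]
      exact Nat.Coprime.pow_left k (hp.coprime_iff_not_dvd.mpr hpn))).resolve_left hx0
    let K : Subgroup G := MonoidHom.ker ρ.asGroupHom
    have hK : ∀ y, y ∈ K ↔ ρ y = 1 := fun y => by
      simp only [K, MonoidHom.mem_ker, Units.ext_iff, Representation.asGroupHom_apply,
        Units.val_one]
    have hcomm : ∀ y, ρ y * ρ x = ρ x * ρ y := fun y => by rw [hcs]; simp
    have hSK : ∀ s ∈ S, ρ s = 1 := by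
      have hmem : s₀ * x * s₀⁻¹ * x⁻¹ ∈ (K.subgroupOf S).map S.subtype := by
        refine ⟨⟨s₀ * x * s₀⁻¹ * x⁻¹, ?_⟩, ?_, rfl⟩
        · have := S.mul_mem hs₀ (Subgroup.Normal.conj_mem inferInstance _ (S.inv_mem hs₀) x)
          simpa [mul_assoc] using this
        · rw [SetLike.mem_coe, Subgroup.mem_subgroupOf, hK]
          rw [map_mul, map_mul, map_mul, hcomm s₀, mul_assoc (ρ x), ← map_mul ρ s₀,
            mul_inv_cancel, map_one, mul_one, ← map_mul, mul_inv_cancel, map_one]
      have htop : K.subgroupOf S = ⊤ := by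
        haveI : (K.subgroupOf S).Normal := inferInstance
        refine (Subgroup.Normal.eq_bot_or_eq_top inferInstance).resolve_left fun h => hns ?_
        rw [h, Subgroup.map_bot, Subgroup.mem_bot] at hmem
        show s₀ * x = x * s₀
        calc s₀ * x = s₀ * x * s₀⁻¹ * x⁻¹ * (x * s₀) := by group
          _ = x * s₀ := by rw [hmem, one_mul]
      intro s hs
      exact (hK s).mp (Subgroup.mem_subgroupOf.mp
        (htop ▸ Subgroup.mem_top (⟨s, hs⟩ : S)))
    have hscal : ∀ y : G, ∃ d : ℂ, ρ y = d • (1 : Module.End ℂ (Fin n → ℂ)) := by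
      intro y
      have hy : y ∈ S ⊔ Subgroup.zpowers x := hgen ▸ Subgroup.mem_top y
      obtain ⟨s, hs, t, ht, rfl⟩ := Subgroup.mem_sup_of_normal_left.mp hy
      obtain ⟨i, rfl⟩ := mem_powers_iff_mem_zpowers.mpr ht
      exact ⟨c ^ i, by rw [map_mul, hSK s hs, one_mul, map_pow, hcs, smul_pow, one_pow]⟩
    have hone : Module.finrank ℂ (Fin n → ℂ) = 1 := by
      haveI := Chars.nontrivial_of_isIrreducible ρ
      obtain ⟨v, hv⟩ := exists_ne (0 : Fin n → ℂ)
      let L : Subrepresentation ρ :=
        ⟨Submodule.span ℂ {v}, fun y w hw => by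
          obtain ⟨d, hd⟩ := hscal y
          simpa [hd] using Submodule.smul_mem _ d hw⟩
      have hL : L = ⊤ := (eq_bot_or_eq_top L).resolve_left fun e => hv (by
        have := Submodule.mem_span_singleton_self (R := ℂ) v
        rw [show Submodule.span ℂ {v} = ⊥ from congrArg Subrepresentation.toSubmodule e] at this
        exact (Submodule.mem_bot ℂ).mp this)
      have h1 := finrank_span_singleton (K := ℂ) hv
      rw [show Submodule.span ℂ {v} = ⊤ from congrArg Subrepresentation.toSubmodule hL,
        finrank_top] at h1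
      exact h1
    have hchar : ∀ y d, ρ y = d • (1 : Module.End ℂ (Fin n → ℂ)) → ρ.character y = d := by
      intro y d hd
      simp [Representation.character, hd, LinearMap.trace_one, hone]
    have hcpow : c ^ r ^ a = 1 := by
      have h1 : ρ (x ^ r ^ a) = 1 := by rw [← hox, pow_orderOf_eq_one, map_one]
      have h2 : ρ (x ^ r ^ a) = c ^ r ^ a • (1 : Module.End ℂ (Fin n → ℂ)) := by
        rw [map_pow, hcs, smul_pow, one_pow]
      have h3 := hchar _ _ h2
      rw [Representation.character, h1, LinearMap.trace_one, hone] at h3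
      simpa using h3.symm
    have hc1 : c = 1 := by
      by_contra hc1
      have hci : IsIntegral ℤ c := IsIntegral.of_pow (pow_pos hr.pos a) (hcpow ▸ isIntegral_one)
      have h1 : MemLocalIdeal M (c - 1) := by
        rw [centralChar, hx, Representation.char_one, hone, hchar x c hcs, Nat.cast_one, div_one] at hcc
        by_contra hd
        refine Blocks.not_memLocalIdeal_mul (Blocks.natCast_mem_localRing (p ^ k))
          (sub_mem (Blocks.isIntegral_mem_localRing hci) (one_mem (Blocks.localRing M))) hpk hd ?_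
        rw [mul_sub, mul_one]
        exact hcc
      have h2 : (∑ i ∈ Finset.range (r ^ a), c ^ i) = 0 := by
        have := geom_sum_mul c (r ^ a)
        rw [hcpow, sub_self] at this
        exact (mul_eq_zero.mp this).resolve_right (sub_ne_zero.mpr hc1)
      have h3 : MemLocalIdeal M ((r ^ a : ℕ) : ℂ) := by
        have h4 : MemLocalIdeal M (∑ i ∈ Finset.range (r ^ a), (c ^ i - 1)) :=
          Blocks.memLocalIdeal_sum _ _ fun i _ => by
            rw [← geom_sum_mul c i]
            exact Blocks.memLocalIdeal_mul_left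
              (Blocks.isIntegral_mem_localRing (IsIntegral.sum _ fun j _ => hci.pow j)) h1
        rw [Finset.sum_sub_distrib, h2, Finset.sum_const, Finset.card_range, nsmul_eq_mul,
          mul_one, zero_sub] at h4
        simpa using Blocks.memLocalIdeal_neg h4
      rw [Blocks.memLocalIdeal_natCast_iff hM] at h3
      exact hqr ((Nat.prime_dvd_prime_iff_eq hq hr).mp (hq.dvd_of_dvd_pow h3))
    refine hne (Subtype.ext (funext fun y => ?_))
    rw [Chars.trivialIrr_apply, ← hc]
    have hy : y ∈ S ⊔ Subgroup.zpowers x := hgen ▸ Subgroup.mem_top y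
    obtain ⟨s, hs, t, ht, rfl⟩ := Subgroup.mem_sup_of_normal_left.mp hy
    obtain ⟨i, rfl⟩ := mem_powers_iff_mem_zpowers.mpr ht
    rw [hchar (s * x ^ i) 1 (by
      rw [map_mul, hSK s hs, one_mul, map_pow, hcs, hc1]; simp)]
  have hBf : (principalBlock M G).Finite := Set.toFinite _
  rw [finsum_mem_eq_finite_toFinset_sum _ hBf,
    ← Finset.add_sum_erase _ _ ((hBf.mem_toFinset).mpr
      (BrauerMap.trivialIrr_mem_principalBlock M))] at horth
  simp only [Chars.trivialIrr_apply, map_one, mul_one] at horth
  have key' : ∀ χ ∈ hBf.toFinset.erase (Chars.trivialIrr G),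
      ∃ z : ℂ, IsIntegral ℤ z ∧ (χ : G → ℂ) 1 * starRingEnd ℂ ((χ : G → ℂ) g) = (p : ℂ) * z :=
    fun χ hχ => key χ ((hBf.mem_toFinset).mp (Finset.mem_erase.mp hχ).2) (Finset.mem_erase.mp hχ).1
  choose z hz1 hz2 using key'
  rw [← Finset.sum_attach, Finset.sum_congr rfl fun χ _ => hz2 χ.1 χ.2, ← Finset.mul_sum] at horth
  set Z := ∑ χ ∈ (hBf.toFinset.erase (Chars.trivialIrr G)).attach, z χ.1 χ.2
  have hZint : IsIntegral ℤ Z := IsIntegral.sum _ fun χ _ => hz1 _ _
  have hp0 : (p : ℂ) ≠ 0 := Nat.cast_ne_zero.mpr hp.ne_zero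
  have hZeq : Z = algebraMap ℚ ℂ (-1 / p) := by
    rw [map_div₀, map_neg, map_one, map_natCast, eq_div_iff hp0]
    linear_combination horth
  rw [hZeq, isIntegral_algebraMap_iff (algebraMap ℚ ℂ).injective,
    IsIntegrallyClosed.isIntegral_iff] at hZint
  obtain ⟨m, hm⟩ := hZint
  have hm' : (p : ℤ) * m = -1 := by
    have hp' : (p : ℚ) ≠ 0 := Nat.cast_ne_zero.mpr hp.ne_zero
    have : ((p : ℤ) : ℚ) * (m : ℚ) = ((-1 : ℤ) : ℚ) := by
      rw [eq_intCast] at hm
      rw [hm]; push_cast; field_simp
    exact_mod_cast this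
  have hdvd : (p : ℤ) ∣ 1 := ⟨-m, by linarith⟩
  exact hp.ne_one (by exact_mod_cast Int.eq_one_of_dvd_one (by positivity) hdvd)

/-- Images of elements with prime power class size have prime power class size. -/
theorem exists_index_eq_pow {H : Type*} [Group H] (f : G →* H) (hf : Function.Surjective f) (x : G)
    {p k : ℕ} (hp : p.Prime) (hx : (Subgroup.centralizer ({x} : Set G)).index = p ^ k) :
    ∃ j, (Subgroup.centralizer ({f x} : Set H)).index = p ^ j := by
  have h1 : (Subgroup.centralizer ({f x} : Set H)).index ∣ p ^ k := by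
    refine (Subgroup.index_dvd_of_le (?_ : (Subgroup.centralizer ({x} : Set G)).map f ≤ _)).trans
      ((Subgroup.index_map_dvd _ hf).trans (hx ▸ dvd_rfl))
    rintro _ ⟨c, hc, rfl⟩
    rw [Subgroup.mem_centralizer_singleton_iff, ← map_mul, ← map_mul]
    rw [SetLike.mem_coe, Subgroup.mem_centralizer_singleton_iff] at hc
    rw [hc]
  obtain ⟨j, -, hj⟩ := (Nat.dvd_prime_pow hp).mp h1
  exact ⟨j, hj⟩

/-- The class size of a power of an element with prime power class size. -/
theorem exists_index_pow_eq_pow (x : G) (n : ℕ)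
    {p k : ℕ} (hp : p.Prime) (hx : (Subgroup.centralizer ({x} : Set G)).index = p ^ k) :
    ∃ j, (Subgroup.centralizer ({x ^ n} : Set G)).index = p ^ j := by
  have h1 : (Subgroup.centralizer ({x ^ n} : Set G)).index ∣ p ^ k := by
    refine (Subgroup.index_dvd_of_le (?_ : Subgroup.centralizer ({x} : Set G) ≤ _)).trans
      (hx ▸ dvd_rfl)
    intro c hc
    rw [Subgroup.mem_centralizer_singleton_iff] at hc ⊢
    exact (Commute.pow_right hc n)
  obtain ⟨j, -, hj⟩ := (Nat.dvd_prime_pow hp).mp h1
  exact ⟨j, hj⟩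

/-- An element with class of prime power size centralises a simple non-abelian normal subgroup
of a normal subgroup. -/
theorem commute_of_primePower_order (N T : Subgroup G) [N.Normal] (hTN : T ≤ N)
    [(T.subgroupOf N).Normal] [IsSimpleGroup T] (hT : ¬ IsMulCommutative T) (x : G) {r a : ℕ}
    (hr : r.Prime) (hox : orderOf x = r ^ a) {p k : ℕ} (hp : p.Prime)
    (hx : (Subgroup.centralizer ({x} : Set G)).index = p ^ k) : ∀ t ∈ T, Commute t x := by
  have hrel : (Subgroup.centralizer ({x} : Set G)).relIndex T ∣ p ^ k := by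
    rw [← Subgroup.relIndex_subgroupOf hTN]
    refine (relIndex_dvd_index_of_normal_right _ (T.subgroupOf N)).trans ?_
    rw [← hx]
    exact relIndex_dvd_index_of_normal_right (Subgroup.centralizer ({x} : Set G)) N
  by_cases hinv : ∀ t ∈ T, x * t * x⁻¹ ∈ T
  · have hn : ∀ y ∈ T ⊔ Subgroup.zpowers x, ∀ t ∈ T, y * t * y⁻¹ ∈ T := by
      have hle : T ⊔ Subgroup.zpowers x ≤ Subgroup.normalizer (T : Set G) := by
        refine sup_le Subgroup.le_normalizer ((Subgroup.zpowers_le).mpr ?_)
        rw [Subgroup.mem_normalizer_iff]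
        refine fun t => ⟨hinv t, fun h => ?_⟩
        have himg : T.map (MulAut.conj x).toMonoidHom = T := by
          refine Subgroup.eq_of_le_of_card_ge ?_ ?_
          · rintro _ ⟨u, hu, rfl⟩; exact hinv u hu
          · rw [Subgroup.card_map_of_injective (MulAut.conj x).injective]
        rw [← himg] at h
        obtain ⟨u, hu, hu'⟩ := h
        have : u = t := mul_left_cancel (mul_right_cancel hu')
        exact this ▸ hu
      exact fun y hy t ht => (Subgroup.mem_normalizer_iff.mp (hle hy) t).mp ht
    set H := T ⊔ Subgroup.zpowers x with hH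
    have hTH : T ≤ H := le_sup_left
    have hxH : x ∈ H := Subgroup.mem_sup_right (Subgroup.mem_zpowers x)
    haveI : (T.subgroupOf H).Normal :=
      ⟨fun t ht y => Subgroup.mem_subgroupOf.mpr (hn _ y.2 _ (Subgroup.mem_subgroupOf.mp ht))⟩
    haveI : IsSimpleGroup (T.subgroupOf H) := MulEquiv.isSimpleGroup
      (Subgroup.subgroupOfEquivOfLe hTH)
    have hTc : ¬ IsMulCommutative (T.subgroupOf H) := fun h => hT (IsMulCommutative.of_comm
      fun u v => (Subgroup.subgroupOfEquivOfLe hTH).symm.injective (by
        rw [map_mul, map_mul]; exact mul_comm' _ _))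
    set xH : H := ⟨x, hxH⟩
    have hgen : T.subgroupOf H ⊔ Subgroup.zpowers xH = ⊤ := by
      refine Subgroup.map_injective H.subtype_injective ?_
      rw [Subgroup.map_sup, MonoidHom.map_zpowers, Subgroup.map_subgroupOf_eq_of_le hTH,
        ← MonoidHom.range_eq_map, Subgroup.range_subtype]
      rfl
    have hC : Subgroup.centralizer ({xH} : Set H) =
        (Subgroup.centralizer ({x} : Set G)).subgroupOf H := by
      ext y
      rw [Subgroup.mem_subgroupOf, Subgroup.mem_centralizer_singleton_iff,
        Subgroup.mem_centralizer_singleton_iff, Subtype.ext_iff]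
      rfl
    have htop : Subgroup.centralizer ({xH} : Set H) ⊔ T.subgroupOf H = ⊤ := by
      rw [eq_top_iff, ← hgen, sup_comm]
      refine sup_le (le_sup_left.trans' ?_) le_sup_right
      rw [Subgroup.zpowers_le, Subgroup.mem_centralizer_singleton_iff]
    have hidx : (Subgroup.centralizer ({xH} : Set H)).index ∣ p ^ k := by
      have h1 : (Subgroup.centralizer ({xH} : Set H)).index =
          (Subgroup.centralizer ({xH} : Set H)).relIndex (T.subgroupOf H) := by
        refine Nat.dvd_antisymm ?_ (relIndex_dvd_index_of_normal_right _ _)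
        rw [← Subgroup.relIndex_top_right, ← htop, relIndex_sup_eq]
      rw [h1, hC, Subgroup.relIndex_subgroupOf hTH]
      exact hrel
    obtain ⟨j, -, hj⟩ := (Nat.dvd_prime_pow hp).mp hidx
    intro t ht
    exact congrArg Subtype.val (commute_of_simple (T.subgroupOf H) hTc xH hgen hr
      (Subgroup.orderOf_mk .. |>.trans hox) hp hj ⟨t, hTH ht⟩ (Subgroup.mem_subgroupOf.mpr ht)).eq
  · exfalso
    push Not at hinv
    obtain ⟨t₀, ht₀, ht₁⟩ := hinv
    set T' := T.map (MulAut.conj x).toMonoidHom with hT'
    have hT'N : T' ≤ N := by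
      rintro _ ⟨u, hu, rfl⟩
      exact Subgroup.Normal.conj_mem inferInstance u (hTN hu) x
    have hnorm : ∀ n ∈ N, ∀ u ∈ T', n * u * n⁻¹ ∈ T' := by
      rintro n hn _ ⟨u, hu, rfl⟩
      refine ⟨(x⁻¹ * n * x) * u * (x⁻¹ * n * x)⁻¹, ?_, ?_⟩
      · have hm : x⁻¹ * n * x ∈ N := by
          simpa using Subgroup.Normal.conj_mem (inferInstance : N.Normal) n hn x⁻¹
        exact Subgroup.mem_subgroupOf.mp (Subgroup.Normal.conj_mem inferInstance
          (⟨u, hTN hu⟩ : N) (Subgroup.mem_subgroupOf.mpr hu) ⟨_, hm⟩)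
      · simp [MulAut.conj_apply]; group
    haveI : (T'.subgroupOf T).Normal :=
      ⟨fun u hu y => Subgroup.mem_subgroupOf.mpr
        (hnorm _ (hTN y.2) _ (Subgroup.mem_subgroupOf.mp hu))⟩
    have hbot : T'.subgroupOf T = ⊥ := by
      refine (Subgroup.Normal.eq_bot_or_eq_top inferInstance).resolve_right fun h => ?_
      have hle : T ≤ T' := Subgroup.subgroupOf_eq_top.mp h
      have heq : T = T' := Subgroup.eq_of_le_of_card_ge hle
        (by rw [hT', Subgroup.card_map_of_injective (MulAut.conj x).injective])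
      exact ht₁ (heq ▸ ⟨t₀, ht₀, rfl⟩)
    have hC : (Subgroup.centralizer ({x} : Set G)).subgroupOf T = ⊥ := by
      rw [eq_bot_iff, ← hbot]
      intro c hc
      rw [Subgroup.mem_subgroupOf, Subgroup.mem_centralizer_singleton_iff] at hc
      refine Subgroup.mem_subgroupOf.mpr ⟨c, c.2, ?_⟩
      show x * (c : G) * x⁻¹ = c
      rw [← hc, mul_inv_cancel_right]
    rw [Subgroup.relIndex, hC, Subgroup.index_bot] at hrel
    obtain ⟨j, -, hj⟩ := (Nat.dvd_prime_pow hp).mp hrel
    haveI : Fact p.Prime := ⟨hp⟩
    exact Primitive62.not_isPGroup_of_simple hT p (IsPGroup.of_card hj)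

/-- The previous statement without the restriction on the order. -/
theorem commute_of_simple_normal (N T : Subgroup G) [N.Normal] (hTN : T ≤ N)
    [(T.subgroupOf N).Normal] [IsSimpleGroup T] (hT : ¬ IsMulCommutative T) (x : G) {p k : ℕ}
    (hp : p.Prime) (hx : (Subgroup.centralizer ({x} : Set G)).index = p ^ k) :
    ∀ t ∈ T, Commute t x := by
  suffices h : ∀ n, ∀ y : G, orderOf y = n → (∃ m : ℕ, x ^ m = y) → ∀ t ∈ T, Commute t y from
    h _ x rfl ⟨1, pow_one x⟩
  intro n
  induction n using Nat.recOnPosPrimePosCoprime with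
  | prime_pow r a hr ha =>
    rintro y hy ⟨m, rfl⟩
    obtain ⟨j, hj⟩ := exists_index_pow_eq_pow x m hp hx
    exact commute_of_primePower_order N T hTN hT _ hr hy hp hj
  | zero => exact fun y hy _ => absurd hy (orderOf_pos y).ne'
  | one => exact fun y hy _ t _ => orderOf_eq_one_iff.mp hy ▸ Commute.one_right t
  | coprime u v hu hv huv ihu ihv =>
    rintro y hy ⟨m, rfl⟩ t ht
    obtain ⟨c, d, hcd⟩ : ∃ c d : ℤ, c * v + d * u = 1 := by
      refine ⟨Nat.gcdA v u, Nat.gcdB v u, ?_⟩
      have := Nat.gcd_eq_gcd_ab v u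
      rw [huv.symm.gcd_eq_one, Nat.cast_one] at this
      linarith
    have h1 : orderOf ((x ^ m) ^ v) = u := by
      rw [orderOf_pow_of_dvd (by omega) (hy ▸ dvd_mul_left v u), hy,
        Nat.mul_div_cancel _ (by omega)]
    have h2 : orderOf ((x ^ m) ^ u) = v := by
      rw [orderOf_pow_of_dvd (by omega) (hy ▸ dvd_mul_right u v), hy,
        Nat.mul_div_cancel_left _ (by omega)]
    have e1 := ihu _ h1 ⟨m * v, pow_mul x m v⟩ t ht
    have e2 := ihv _ h2 ⟨m * u, pow_mul x m u⟩ t ht
    have e3 : x ^ m = ((x ^ m) ^ v) ^ c * ((x ^ m) ^ u) ^ d := by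
      rw [← zpow_natCast (x ^ m) v, ← zpow_natCast (x ^ m) u, ← zpow_mul, ← zpow_mul,
        ← zpow_add, mul_comm (v : ℤ) c, mul_comm (u : ℤ) d, hcd, zpow_one]
    rw [e3]
    exact (e1.zpow_right c).mul_right (e2.zpow_right d)

/-- The minimal step: the element centralises every minimal normal non-abelian subgroup. -/
theorem mem_centralizer_of_minimal (N : Subgroup G) [N.Normal] (hN : N ≠ ⊥)
    (hmin : ∀ M : Subgroup G, M.Normal → M ≤ N → M = ⊥ ∨ M = N) (hab : ¬ IsMulCommutative N)
    (x : G) {p k : ℕ} (hp : p.Prime)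
    (hx : (Subgroup.centralizer ({x} : Set G)).index = p ^ k) :
    x ∈ Subgroup.centralizer (N : Set G) := by
  classical
  obtain h | ⟨S, _, _, _, m, _, hSna, ⟨e⟩⟩ := Primitive62.minimal_normal_cases N hN hmin
  · exact absurd h.1 hab
  let D : Subgroup (Fin m → S) :=
    (Subgroup.centralizer ({x} : Set G)).comap (N.subtype.comp e.symm.toMonoidHom)
  have hD : ∀ f : Fin m → S, f ∈ D := by
    intro f
    refine Subgroup.pi_mem_of_mulSingle_mem f fun i => ?_
    let ι : S →* G := N.subtype.comp (e.symm.toMonoidHom.comp (MonoidHom.mulSingle (fun _ => S) i))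
    have hι : Function.Injective ι :=
      N.subtype_injective.comp (e.symm.injective.comp (Pi.mulSingle_injective (M := fun _ => S) i))
    let T : Subgroup G := ι.range
    have hTN : T ≤ N := by rintro _ ⟨s, rfl⟩; exact SetLike.coe_mem _
    haveI : IsSimpleGroup T := MulEquiv.isSimpleGroup
      (MonoidHom.ofInjective hι).symm
    have hTna : ¬ IsMulCommutative T := fun h => hSna (IsMulCommutative.of_comm fun u v =>
      (MonoidHom.ofInjective hι).injective (by rw [map_mul, map_mul]; exact mul_comm' _ _))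
    haveI : (T.subgroupOf N).Normal := by
      refine ⟨fun u hu y => ?_⟩
      obtain ⟨s, hs⟩ := Subgroup.mem_subgroupOf.mp hu
      refine Subgroup.mem_subgroupOf.mpr ⟨e y i * s * (e y i)⁻¹, ?_⟩
      have hu' : u = e.symm (Pi.mulSingle i s) := Subtype.ext hs.symm
      show ((e.symm (Pi.mulSingle i (e y i * s * (e y i)⁻¹)) : N) : G) = _
      congr 1
      refine e.injective ?_
      rw [MulEquiv.apply_symm_apply, map_mul, map_mul, map_inv, hu', MulEquiv.apply_symm_apply]
      funext j
      by_cases hj : j = i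
      · subst hj; simp
      · simp [hj]
    have hc := commute_of_simple_normal N T hTN hTna x hp hx (ι (f i)) ⟨f i, rfl⟩
    exact Subgroup.mem_centralizer_singleton_iff.mpr hc
  intro n hn
  have := Subgroup.mem_centralizer_singleton_iff.mp (hD (e ⟨n, hn⟩))
  simpa using this

/-- Kazarin's theorem: an element whose class has prime power size has a solvable normal
closure. -/
theorem isSolvable_normalClosure : ∀ (n : ℕ) (G : Type u) [Group G] [Finite G], Nat.card G = n →
    ∀ (x : G) (p k : ℕ), p.Prime → (Subgroup.centralizer ({x} : Set G)).index = p ^ k →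
      Group.IsSolvable (Subgroup.normalClosure ({x} : Set G)) := by
  intro n
  induction n using Nat.strong_induction_on with
  | _ n ih =>
    intro G _ _ hcard x p k hp hx
    set X := Subgroup.normalClosure ({x} : Set G) with hX
    by_cases hsol : ∃ A : Subgroup G, A.Normal ∧ A ≠ ⊥ ∧ Group.IsSolvable A
    · obtain ⟨A, hA, hAne, hAsol⟩ := hsol
      obtain ⟨j, hj⟩ := exists_index_eq_pow (QuotientGroup.mk' A) (QuotientGroup.mk'_surjective A)
        x hp hx
      have hlt : Nat.card (G ⧸ A) < n := by
        rw [← hcard, ← A.card_mul_index, Subgroup.index_eq_card]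
        exact lt_mul_left Nat.card_pos (A.one_lt_card_iff_ne_bot.mpr hAne)
      have hq := ih _ hlt (G ⧸ A) rfl _ p j hp hj
      have hmap : X.map (QuotientGroup.mk' A) =
          Subgroup.normalClosure ({QuotientGroup.mk' A x} : Set (G ⧸ A)) := by
        rw [hX, Subgroup.map_normalClosure _ _ (QuotientGroup.mk'_surjective A),
          Set.image_singleton]
      rw [← hmap] at hq
      let f : X →* X.map (QuotientGroup.mk' A) := (QuotientGroup.mk' A).subgroupMap X
      haveI := hq
      haveI := hAsol
      let g : f.ker →* A :=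
        { toFun := fun u => ⟨(u : X), (QuotientGroup.eq_one_iff _).mp
            (congrArg Subtype.val u.2)⟩
          map_one' := rfl
          map_mul' := fun _ _ => rfl }
      have hg : Function.Injective g := by
        intro u v h
        have h' : ((u : X) : G) = ((v : X) : G) := congrArg (fun z : A => (z : G)) h
        exact Subtype.ext (Subtype.ext h')
      haveI : Group.IsSolvable f.ker := Group.isSolvable_of_isSolvable_injective hg
      exact Group.isSolvable_of_ker_le_range f.ker.subtype f (by rw [Subgroup.range_subtype])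
    push Not at hsol
    by_cases hX0 : X = ⊥
    · rw [hX0]; infer_instance
    obtain ⟨N, hN, hNne, hNX, hmin⟩ := Primitive62.exists_minimal_normal X hX0
    have hab : ¬ IsMulCommutative N := fun h => hsol N hN hNne (Group.isSolvable_of_comm fun a b =>
      mul_comm' a b)
    have hc := mem_centralizer_of_minimal N hNne hmin hab x hp hx
    have hle : X ≤ Subgroup.centralizer (N : Set G) :=
      Subgroup.normalClosure_le_normal (Set.singleton_subset_iff.mpr hc)
    exact absurd (IsMulCommutative.of_comm fun a b => Subtype.ext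
      ((hle (hNX b.2)) a a.2)) hab

end Cfsg.Agent.Lib.Kazarin

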